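import Mathlib

/-!
Two base changes which detect zero modules detect finite type, finite presentation (for flat
algebras) and unramifiedness.
-/

set_option autoImplicit false
universe u

open TensorProduct

namespace Groth.Agent.CornerDetectLib

set_option maxHeartbeats 400000

/-- `C₁` and `C₂` together detect zero modules. -/
def Detects (R C₁ C₂ : Type u) [CommRing R] [CommRing C₁] [Algebra R C₁] [CommRing C₂]
    [Algebra R C₂] : Prop :=
  ∀ (Q : Type u) [AddCommGroup Q] [Module R Q], Subsingleton (C₁ ⊗[R] Q) →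
    Subsingleton (C₂ ⊗[R] Q) → Subsingleton Q

variable {R C₁ C₂ : Type u} [CommRing R] [CommRing C₁] [Algebra R C₁] [CommRing C₂]
  [Algebra R C₂]

/-- A submodule which generates in both corners is everything. -/
lemma eq_top_of_detects (hd : Detects R C₁ C₂) {Q : Type u} [AddCommGroup Q]
    [Module R Q] (N : Submodule R Q) (h1 : Function.Surjective (N.subtype.lTensor C₁))
    (h2 : Function.Surjective (N.subtype.lTensor C₂)) : N = ⊤ := by
  have aux : ∀ (C : Type u) [CommRing C] [Algebra R C], Function.Surjective (N.subtype.lTensor C) →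
      Subsingleton (C ⊗[R] (Q ⧸ N)) := by
    intro C _ _ h
    refine subsingleton_of_forall_eq 0 fun w => ?_
    obtain ⟨z, rfl⟩ := LinearMap.lTensor_surjective C N.mkQ_surjective w
    obtain ⟨y, rfl⟩ := h z
    rw [← LinearMap.lTensor_comp_apply, (LinearMap.exact_subtype_mkQ N).linearMap_comp_eq_zero,
      LinearMap.lTensor_zero, LinearMap.zero_apply]
  have := aux C₁ h1
  have := aux _ h2
  exact Submodule.Quotient.subsingleton_iff.1 (hd (Q ⧸ N) inferInstance inferInstance)

theorem finiteType_of_detects (hd : Detects R C₁ C₂) (B : Type u) [CommRing B]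
    [Algebra R B] [Algebra.FiniteType C₁ (C₁ ⊗[R] B)]
    [Algebra.FiniteType C₂ (C₂ ⊗[R] B)] :
    Algebra.FiniteType R B := by
  classical
  have gen : ∀ (C : Type u) [CommRing C] [Algebra R C] [Algebra.FiniteType C (C ⊗[R] B)],
      ∃ G : Finset B, ∀ P : Subalgebra R B, (G : Set B) ⊆ P →
        Function.Surjective (P.val.toLinearMap.lTensor C) := by
    intro C _ _ _
    obtain ⟨s, hs⟩ := Algebra.FiniteType.out (R := C) (A := C ⊗[R] B)
    choose F hF using fun z : C ⊗[R] B => TensorProduct.exists_finset z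
    refine ⟨s.biUnion fun z => (F z).image Prod.snd, fun P hP => ?_⟩
    let m : C ⊗[R] P →ₐ[C] C ⊗[R] B := Algebra.TensorProduct.map (AlgHom.id C C) P.val
    have hrange : m.range = ⊤ := by
      refine top_le_iff.1 (hs.ge.trans (Algebra.adjoin_le fun z hz => ?_))
      rw [hF z]
      refine Subalgebra.sum_mem _ fun i hi => ?_
      exact ⟨i.1 ⊗ₜ ⟨i.2, hP (Finset.mem_biUnion.2 ⟨z, hz, Finset.mem_image.2 ⟨i, hi, rfl⟩⟩)⟩, rfl⟩
    intro z
    obtain ⟨y, hy⟩ : z ∈ m.range := by rw [hrange]; exact Algebra.mem_top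
    refine ⟨y, ?_⟩
    rw [← hy]
    clear hy
    induction y using TensorProduct.induction_on with
    | zero => simp
    | tmul a b => rfl
    | add a b ha hb => simp only [map_add, ha, hb]
  obtain ⟨G₁, hG₁⟩ := gen C₁
  obtain ⟨G₂, hG₂⟩ := gen C₂
  let P := Algebra.adjoin R ((G₁ ∪ G₂ : Finset B) : Set B)
  have h := eq_top_of_detects hd (Subalgebra.toSubmodule P)
    (hG₁ P fun x hx => Algebra.subset_adjoin (Finset.mem_union_left _ hx))
    (hG₂ P fun x hx => Algebra.subset_adjoin (Finset.mem_union_right _ hx))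
  exact ⟨⟨G₁ ∪ G₂, Algebra.toSubmodule_eq_top.1 h⟩⟩

theorem finitePresentation_of_detects (hd : Detects R C₁ C₂) (B : Type u)
    [CommRing B] [Algebra R B] [Module.Flat R B]
    [Algebra.FinitePresentation C₁ (C₁ ⊗[R] B)]
    [Algebra.FinitePresentation C₂ (C₂ ⊗[R] B)] :
    Algebra.FinitePresentation R B := by
  classical
  have : Algebra.FiniteType R B := finiteType_of_detects hd B
  obtain ⟨n, π, hπ⟩ := Algebra.FiniteType.iff_quotient_mvPolynomial''.1 this
  let I := RingHom.ker π
  have gen : ∀ (C : Type u) [CommRing C] [Algebra R C]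
      [Algebra.FinitePresentation C (C ⊗[R] B)],
      ∃ G : Finset (MvPolynomial (Fin n) R), (∀ g ∈ G, g ∈ I) ∧
        ∀ J : Ideal (MvPolynomial (Fin n) R), (∀ g ∈ G, g ∈ J) → ∀ hJI : J ≤ I,
          Function.Surjective ((Submodule.inclusion
            (show J.restrictScalars R ≤ I.restrictScalars R from hJI)).lTensor C) := by
    intro C _ _ _
    let π' : C ⊗[R] MvPolynomial (Fin n) R →ₐ[C] C ⊗[R] B :=
      Algebra.TensorProduct.map (AlgHom.id C C) π
    have hπ' : Function.Surjective π' := LinearMap.lTensor_surjective C (g := π.toLinearMap) hπ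
    have hfg : (RingHom.ker π'.toRingHom).FG :=
      Algebra.FinitePresentation.ker_fG_of_surjective π' hπ'
    have hker : RingHom.ker π'.toRingHom =
        I.map (Algebra.TensorProduct.includeRight :
          MvPolynomial (Fin n) R →ₐ[R] C ⊗[R] MvPolynomial (Fin n) R) :=
      Algebra.TensorProduct.lTensor_ker (A := C) π hπ
    rw [hker, Ideal.map] at hfg
    obtain ⟨G', hG', hspan⟩ := (Submodule.fg_span_iff_fg_span_finset_subset _).1 hfg
    obtain ⟨G, hG, rfl⟩ := Finset.subset_set_image_iff.1 hG'
    refine ⟨G, hG, fun J hGJ hJI t => ?_⟩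
    have hmap : I.map (Algebra.TensorProduct.includeRight :
          MvPolynomial (Fin n) R →ₐ[R] C ⊗[R] MvPolynomial (Fin n) R) ≤
        J.map (Algebra.TensorProduct.includeRight :
          MvPolynomial (Fin n) R →ₐ[R] C ⊗[R] MvPolynomial (Fin n) R) := by
      rw [Ideal.map]
      refine hspan.trans_le ?_
      refine Submodule.span_le.2 ?_
      rw [Finset.coe_image]
      rintro _ ⟨g, hg, rfl⟩
      exact Ideal.mem_map_of_mem _ (hGJ g hg)
    have hinj : Function.Injective ((I.restrictScalars R).subtype.lTensor C) :=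
      LinearMap.lTensor_injective_of_exact_of_flat π.toLinearMap hπ _ Subtype.val_injective
        (fun x => ⟨fun h => ⟨⟨x, h⟩, rfl⟩, fun ⟨y, hy⟩ => hy ▸ y.2⟩) C
    have h1 : (I.restrictScalars R).subtype.lTensor C t ∈
        LinearMap.range ((J.restrictScalars R).subtype.lTensor C) := by
      rw [← Ideal.map_includeRight_eq, Submodule.restrictScalars_mem]
      apply hmap
      rw [← Submodule.restrictScalars_mem R, Ideal.map_includeRight_eq]
      exact ⟨t, rfl⟩
    obtain ⟨s, hs⟩ := h1
    refine ⟨s, hinj ?_⟩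
    rw [← LinearMap.lTensor_comp_apply, Submodule.subtype_comp_inclusion]
    exact hs
  obtain ⟨G₁, hG₁I, hG₁⟩ := gen C₁
  obtain ⟨G₂, hG₂I, hG₂⟩ := gen C₂
  let J : Ideal (MvPolynomial (Fin n) R) := Ideal.span ((G₁ ∪ G₂ : Finset _) : Set _)
  have hJI : J ≤ I := Ideal.span_le.2 fun g hg => (Finset.mem_union.1 hg).elim (hG₁I g) (hG₂I g)
  let N : Submodule R (I.restrictScalars R) :=
    (J.restrictScalars R).comap (I.restrictScalars R).subtype
  have aux : ∀ (C : Type u) [CommRing C] [Algebra R C],
      Function.Surjective ((Submodule.inclusion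
        (show J.restrictScalars R ≤ I.restrictScalars R from hJI)).lTensor C) →
      Function.Surjective (N.subtype.lTensor C) := by
    intro C _ _ h
    let v : J.restrictScalars R →ₗ[R] N :=
      (Submodule.inclusion (show J.restrictScalars R ≤ I.restrictScalars R from hJI)).codRestrict N fun x => x.2
    refine Function.Surjective.of_comp (g := v.lTensor C) ?_
    rw [← LinearMap.coe_comp, ← LinearMap.lTensor_comp]
    exact h
  have h := eq_top_of_detects hd N
    (aux C₁ (hG₁ J (fun x hx => Ideal.subset_span (Finset.mem_union_left _ hx)) hJI))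
    (aux _ (hG₂ J (fun x hx => Ideal.subset_span (Finset.mem_union_right _ hx)) hJI))
  have hIJ : I = J := le_antisymm (fun x hx => (h.ge (Submodule.mem_top (x := ⟨x, hx⟩)) :)) hJI
  refine Algebra.FinitePresentation.of_surjective hπ ?_
  change I.FG
  rw [hIJ]
  exact ⟨G₁ ∪ G₂, rfl⟩

attribute [local instance] Algebra.TensorProduct.rightAlgebra in
theorem formallyUnramified_of_detects (hd : Detects R C₁ C₂) (B : Type u)
    [CommRing B] [Algebra R B] [Algebra.FormallyUnramified C₁ (C₁ ⊗[R] B)]
    [Algebra.FormallyUnramified C₂ (C₂ ⊗[R] B)] :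
    Algebra.FormallyUnramified R B := by
  have : Subsingleton (C₁ ⊗[R] Ω[B⁄R]) :=
    (KaehlerDifferential.tensorKaehlerEquivBase R C₁ B (C₁ ⊗[R] B)).subsingleton
  have : Subsingleton (C₂ ⊗[R] Ω[B⁄R]) :=
    (KaehlerDifferential.tensorKaehlerEquivBase R C₂ B
      (C₂ ⊗[R] B)).subsingleton
  exact ⟨hd _ inferInstance inferInstance⟩

end Groth.Agent.CornerDetectLib
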